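import Groth.Agent.Lib.MaxTorBC14.Basic
import Groth.Agent.Lib.Flag27.MaxTorusIso
import Groth.Agent.Lib.DiagGrp.Torus
import Groth.Agent.Lib.DiagGrp.BaseChange
import Groth.Agent.Lib.MonoMT14.ImageFpqc
import Groth.Agent.Lib.AlgSp.FieldBase

/-!
# Geometrically maximal tori and base change
-/

set_option autoImplicit false
set_option linter.all false
set_option backward.isDefEq.respectTransparency false

universe u

open CategoryTheory CategoryTheory.Limits MonoidalCategory CartesianMonoidalCategory MonObj GrpObj AlgebraicGeometry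

set_option maxHeartbeats 1600000
set_option synthInstance.maxHeartbeats 400000

namespace GrothLib.MaxTorBC14

open GrothLib.Flag27

/-- Base change of a torus is a torus. -/
theorem isTorus_bc {S S' : Scheme.{u}} (g : S' ⟶ S) {T : Over S} [GrpObj T] (hT : Red.IsTorus T) :
    Red.IsTorus (Red.bc g T) := by
  let Q : ∀ (M : Type), AddCommGroup M → Prop := fun M inst =>
    ∃ r : ℕ, (⟨M, inst⟩ : Σ M : Type, AddCommGroup M) = ⟨(Fin r → ℤ), inferInstance⟩
  have h : GrothLib.DiagGrp.HasChartsFpqc Q T := by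
    obtain ⟨S'', f, h1, h2, h3, h4⟩ := hT
    exact ⟨S'', f, h1, h2, h3, fun s' => by
      obtain ⟨U, hU, r, e⟩ := h4 s'
      exact ⟨U, hU, _, _, ⟨r, rfl⟩, e⟩⟩
  obtain ⟨S'', f, h1, h2, h3, h4⟩ := h.baseChange g
  refine ⟨S'', f, h1, h2, h3, fun s' => ?_⟩
  obtain ⟨U, hU, M, inst, ⟨r, hr⟩, e⟩ := h4 s'
  cases hr
  exact ⟨U, hU, r, e⟩

/-- An algebraically closed point factors through the geometric point below it. -/
theorem exists_geomPt_lift {S : Scheme.{u}} (s : S) {L : Type u} [Field L] [IsAlgClosed L]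
    (ψ : S.residueField s ⟶ CommRingCat.of L) :
    ∃ g : Spec (CommRingCat.of L) ⟶ Spec (CommRingCat.of (AlgebraicClosure (S.residueField s))),
      g ≫ Red.geomPt s = Spec.map ψ ≫ S.fromSpecResidueField s := by
  letI : Algebra (S.residueField s) L := ψ.hom.toAlgebra
  let φ : AlgebraicClosure (S.residueField s) →ₐ[S.residueField s] L := IsAlgClosed.lift
  refine ⟨Spec.map (CommRingCat.ofHom φ.toRingHom), ?_⟩
  show Spec.map _ ≫ Spec.map _ ≫ _ = _
  rw [← Spec.map_comp_assoc]
  refine congrArg (fun m => Spec.map m ≫ S.fromSpecResidueField s) ?_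
  exact CommRingCat.hom_ext φ.comp_algebraMap

/-- The geometric point of a point over a given one, through the geometric point of the latter. -/
theorem exists_geomPt_comp {S S' : Scheme.{u}} (f : S' ⟶ S) (s' : S') :
    ∃ g : Spec (CommRingCat.of (AlgebraicClosure (S'.residueField s'))) ⟶
        Spec (CommRingCat.of (AlgebraicClosure (S.residueField (f.base s')))),
      g ≫ Red.geomPt (f.base s') = Red.geomPt s' ≫ f := by
  obtain ⟨g, hg⟩ := exists_geomPt_lift (f.base s') (L := AlgebraicClosure (S'.residueField s'))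
    (f.residueFieldMap s' ≫ CommRingCat.ofHom (algebraMap (S'.residueField s') (AlgebraicClosure (S'.residueField s'))))
  refine ⟨g, hg.trans ?_⟩
  rw [Spec.map_comp, Category.assoc, Scheme.Hom.SpecMap_residueFieldMap_fromSpecResidueField]
  exact (Category.assoc _ _ _).symm

/-- Base change along the two sides of a commutative square. -/
noncomputable def bcSquareIso {S S₁ S₂ W : Scheme.{u}} (f : S₁ ⟶ S) (p : S₂ ⟶ S) (q : W ⟶ S₁) (g : W ⟶ S₂)
    (h : g ≫ p = q ≫ f) :
    (Over.pullback f).mapGrp ⋙ (Over.pullback q).mapGrp ≅ (Over.pullback p).mapGrp ⋙ (Over.pullback g).mapGrp :=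
  Functor.mapGrpCompIso.symm ≪≫
    Functor.mapGrpNatIso ((Over.pullbackComp q f).symm ≪≫ pullbackEq h.symm ≪≫ Over.pullbackComp g p) ≪≫
      Functor.mapGrpCompIso

variable {S S₁ : Scheme.{u}} (f : S₁ ⟶ S) {K L : Type u} [Field K] [IsAlgClosed K] [Field L]
  (p : Spec (CommRingCat.of K) ⟶ S) (q : Spec (CommRingCat.of L) ⟶ S₁)
  (g : Spec (CommRingCat.of L) ⟶ Spec (CommRingCat.of K))

/-- A mono from a torus stays a mono after base change. -/
theorem mono_map {S S' : Scheme.{u}} (g : S' ⟶ S) {A B : Over S} (j : A ⟶ B) [Mono j] :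
    Mono ((Over.pullback g).map j) := by
  haveI : (Over.pullback g).IsRightAdjoint := (Over.mapPullbackAdj g).isRightAdjoint
  infer_instance

/-- Maximality at a point passes to the points above it. -/
theorem isIso_of_max_below (h : g ≫ p = q ≫ f) {G T : Over S} [GrpObj G] [GrpObj T]
    [IsAffine (Red.bc p G).left] [Smooth (Red.bc p G).hom] (i : T ⟶ G) [IsMonHom i]
    (hm : AGF.IsMaxTorus ((Over.pullback p).map i))
    {T' : Over (Spec (CommRingCat.of L))} [GrpObj T'] (hT' : Red.IsTorus T')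
    (j : T' ⟶ Red.bc q (Red.bc f G)) [IsMonHom j] [Mono j] (f₀ : Red.bc q (Red.bc f T) ⟶ T')
    (hf : f₀ ≫ j = (Over.pullback q).map ((Over.pullback f).map i)) : IsIso f₀ := by
  let eG := (bcSquareIso f p q g h).app (Grp.mk G)
  let eT := (bcSquareIso f p q g h).app (Grp.mk T)
  have hnat : (Over.pullback q).map ((Over.pullback f).map i) ≫ eG.hom.hom.hom =
      eT.hom.hom.hom ≫ (Over.pullback g).map ((Over.pullback p).map i) :=
    congrArg (fun m : Grp.mk (Red.bc q (Red.bc f T)) ⟶ Grp.mk (Red.bc g (Red.bc p G)) => m.hom.hom)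
      ((bcSquareIso f p q g h).hom.naturality (Grp.homMk i : Grp.mk T ⟶ Grp.mk G))
  haveI : IsMonHom eG.hom.hom.hom := eG.hom.hom.isMonHom_hom
  haveI : Mono eG.hom.hom.hom := inferInstanceAs (Mono ((Grp.forget _).mapIso eG).hom)
  haveI : IsIso eT.inv.hom.hom := inferInstanceAs (IsIso ((Grp.forget _).mapIso eT).inv)
  have he : eT.inv.hom.hom ≫ eT.hom.hom.hom = 𝟙 (Red.bc g (Red.bc p T)) := congrArg (fun m => m.hom.hom) eT.inv_hom_id
  haveI := isIso_of_le g hm hT' (j ≫ eG.hom.hom.hom) (eT.inv.hom.hom ≫ f₀)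
    (by rw [Category.assoc, ← Category.assoc f₀, hf, hnat, ← Category.assoc, he, Category.id_comp])
  exact IsIso.of_isIso_comp_left eT.inv.hom.hom f₀

omit [IsAlgClosed K] in
/-- Maximality at a point follows from that at a point above it. -/
theorem isIso_of_max_above (h : g ≫ p = q ≫ f) {G T : Over S} [GrpObj G] [GrpObj T]
    [IsAffine (Red.bc p G).left] [LocallyOfFiniteType (Red.bc p G).hom] (i : T ⟶ G) [IsMonHom i] [Mono i]
    (hT : Red.IsTorus T)
    (hm : ∀ (T' : Over (Spec (CommRingCat.of L))) [GrpObj T'] (j : T' ⟶ Red.bc q (Red.bc f G)) [IsMonHom j] [Mono j]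
      (f₀ : Red.bc q (Red.bc f T) ⟶ T'), Red.IsTorus T' →
        f₀ ≫ j = (Over.pullback q).map ((Over.pullback f).map i) → IsIso f₀)
    {T₁ : Over (Spec (CommRingCat.of K))} [GrpObj T₁] (hT₁ : Red.IsTorus T₁)
    (j : T₁ ⟶ Red.bc p G) [IsMonHom j] [Mono j] (f₁ : Red.bc p T ⟶ T₁)
    (hf : f₁ ≫ j = (Over.pullback p).map i) : IsIso f₁ := by
  let eG := (bcSquareIso f p q g h).app (Grp.mk G)
  let eT := (bcSquareIso f p q g h).app (Grp.mk T)
  have hnat : (Over.pullback q).map ((Over.pullback f).map i) ≫ eG.hom.hom.hom =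
      eT.hom.hom.hom ≫ (Over.pullback g).map ((Over.pullback p).map i) :=
    congrArg (fun m : Grp.mk (Red.bc q (Red.bc f T)) ⟶ Grp.mk (Red.bc g (Red.bc p G)) => m.hom.hom)
      ((bcSquareIso f p q g h).hom.naturality (Grp.homMk i : Grp.mk T ⟶ Grp.mk G))
  haveI : IsMonHom eG.inv.hom.hom := eG.inv.hom.isMonHom_hom
  haveI : Mono eG.inv.hom.hom := inferInstanceAs (Mono ((Grp.forget _).mapIso eG).inv)
  haveI : IsIso eT.hom.hom.hom := inferInstanceAs (IsIso ((Grp.forget _).mapIso eT).hom)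
  have he : eG.hom.hom.hom ≫ eG.inv.hom.hom = 𝟙 (Red.bc q (Red.bc f G)) := congrArg (fun m => m.hom.hom) eG.hom_inv_id
  haveI := mono_map g j
  haveI : IsIso (eT.hom.hom.hom ≫ (Over.pullback g).map f₁) :=
    hm (Red.bc g T₁) ((Over.pullback g).map j ≫ eG.inv.hom.hom) _ (isTorus_bc g hT₁)
      (by rw [Category.assoc, ← Functor.map_comp_assoc, hf, ← Category.assoc, ← hnat, Category.assoc, he,
        Category.comp_id])
  haveI : IsIso ((Over.pullback g).map f₁) := IsIso.of_isIso_comp_left eT.hom.hom.hom _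
  haveI := mono_map p i
  haveI : IsClosedImmersion ((Over.pullback p).map i).left := (torus_facts (isTorus_bc p hT) _).1
  haveI : IsAffine T₁.left := (torus_facts hT₁ j).2.1
  haveI : IsClosedImmersion (f₁.left ≫ j.left) := by rw [← Over.comp_left, hf]; infer_instance
  haveI : IsClosedImmersion f₁.left := IsClosedImmersion.of_comp f₁.left j.left
  haveI : Flat g := GrothLib.AlgSp.flat_to_field g
  haveI : Surjective g := surjective_to_field g
  haveI : IsIso f₁.left := GrothLib.MonoMT14.isIso_of_bc g f₁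
    (inferInstanceAs (IsIso ((Over.forget _).map ((Over.pullback g).map f₁))))
  haveI : IsIso ((Over.forget _).map f₁) := ‹IsIso f₁.left›
  exact isIso_of_reflects_iso f₁ (Over.forget _)

/-- Maximal tori are the same before and after a surjective base change. -/
theorem isMaximalTorus_iff {G T : Over S} [GrpObj G] [GrpObj T] [Smooth G.hom] [IsAffineHom G.hom] (i : T ⟶ G)
    [IsMonHom i] [Mono i] (hT : Red.IsTorus T) :
    (Red.IsMaximalTorus i → Red.IsMaximalTorus ((Over.pullback f).map i)) ∧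
      (Surjective f → Red.IsMaximalTorus ((Over.pullback f).map i) → Red.IsMaximalTorus i) := by
  have hGa : ∀ s : S, IsAffine (Red.bc (Red.geomPt s) G).left ∧ Smooth (Red.bc (Red.geomPt s) G).hom := fun s => by
    refine ⟨?_, smooth_bc _ G⟩
    haveI : IsAffineHom (Red.bc (Red.geomPt s) G).hom :=
      MorphismProperty.pullback_snd (P := @IsAffineHom) G.hom (Red.geomPt s) ‹_›
    exact isAffine_of_isAffineHom (Red.bc (Red.geomPt s) G).hom
  constructor
  · intro hi
    refine ⟨inferInstance, mono_map f i, isTorus_bc f hT, fun s' T' _ j _ _ f₀ hT' hf => ?_⟩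
    obtain ⟨g, hg⟩ := exists_geomPt_comp f s'
    haveI := (hGa (f.base s')).1
    haveI := (hGa (f.base s')).2
    refine isIso_of_max_below f _ _ g hg i ⟨inferInstance, mono_map _ i, isTorus_bc _ hT, ?_⟩ hT' j f₀ hf
    intro T₁ _ j₁ _ _ f₁ hT₁ h₁
    exact hi.2.2.2 _ T₁ j₁ f₁ hT₁ h₁
  · intro hsurj hi
    refine ⟨inferInstance, inferInstance, hT, fun s T₁ _ j _ _ f₁ hT₁ hf => ?_⟩
    obtain ⟨s', hs'⟩ := hsurj.1 s
    subst hs'
    obtain ⟨g, hg⟩ := exists_geomPt_comp f s'
    haveI := (hGa (f.base s')).1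
    haveI := (hGa (f.base s')).2
    exact isIso_of_max_above f _ _ g hg i hT (fun T' _ j' _ _ f₀ hT' h₀ => hi.2.2.2 s' T' j' f₀ hT' h₀) hT₁ j f₁ hf

end GrothLib.MaxTorBC14
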