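import Groth.Agent.Lib.MaxTorBC14.CentralIn
import Groth.Agent.Lib.MonoMT14.MultImage
import Groth.Agent.Lib.MonoMT14.GoodAny
import Groth.Agent.Lib.DiagGrp.ProductChart
import Groth.Agent.Lib.SubTorus14.Join

/-!
# Maximal tori of commutative subgroups absorb every subtorus
-/

set_option autoImplicit false
set_option linter.all false
set_option backward.isDefEq.respectTransparency false

universe u

open CategoryTheory CategoryTheory.Limits MonoidalCategory CartesianMonoidalCategory MonObj GrpObj AlgebraicGeometry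

set_option maxHeartbeats 1600000
set_option synthInstance.maxHeartbeats 400000

namespace GrothLib.MaxTorBC14

open GrothLib.DiagGrp

/-- Character groups of split tori. -/
def freeM : ∀ (M : Type), AddCommGroup M → Prop := fun M inst =>
  ∃ r : ℕ, Nonempty ((Fin r → ℤ) ≃+ M)

theorem hasCharts_free {S : Scheme.{u}} {T : Over S} [GrpObj T] (hT : Red.IsTorus T) :
    HasChartsFpqc freeM T := by
  obtain ⟨S', f, h1, h2, h3, h4⟩ := hT
  exact ⟨S', f, h1, h2, h3, fun s => by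
    obtain ⟨U, hU, r, e⟩ := h4 s
    exact ⟨U, hU, _, _, ⟨r, ⟨AddEquiv.refl _⟩⟩, e⟩⟩

variable {k : Type u} [Field k]

set_option maxHeartbeats 3200000 in
/-- Over a field two commuting tori in an affine group lie in a third one. -/
theorem exists_image_torus {G T H : Over (Spec (CommRingCat.of k))} [GrpObj G] [GrpObj T] [GrpObj H]
    [IsAffine G.left] [LocallyOfFiniteType G.hom] (hT : Red.IsTorus T) (hH : Red.IsTorus H)
    (v : T ⊗ H ⟶ G) [IsMonHom v] :
    ∃ (I : Over (Spec (CommRingCat.of k))) (_ : GrpObj I) (j : I ⟶ G) (f : T ⊗ H ⟶ I),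
      IsMonHom j ∧ IsMonHom f ∧ IsClosedImmersion j.left ∧ Red.IsTorus I ∧ Flat f.left ∧ Surjective f.left ∧
        QuasiCompact f.left ∧ f ≫ j = v := by
  let S := Spec (CommRingCat.of k)
  haveI : LocallyOfFinitePresentation G.hom := inferInstance
  haveI : IsAffineHom G.hom := isAffineHom_of_isAffine _
  haveI : IsAffineHom T.hom := GrothLib.EssFree.isAffineHom_of_charts (hasChartsFpqc_of_isTorus hT)
  haveI : IsAffineHom H.hom := GrothLib.EssFree.isAffineHom_of_charts (hasChartsFpqc_of_isTorus hH)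
  haveI : IsAffine T.left := isAffine_of_isAffineHom T.hom
  haveI : IsAffine H.left := isAffine_of_isAffineHom H.hom
  haveI : IsAffine (T ⊗ H).left := inferInstanceAs (IsAffine (pullback T.hom H.hom))
  haveI : IsAffine (⊤ : S.Opens).toScheme := isAffineOpen_top S
  obtain ⟨W, q, hqf, hqs, -, hloc⟩ := ((hasCharts_free hT).coverBy ⊤ (isAffineOpen_top S)).inter
    ((hasCharts_free hH).coverBy ⊤ (isAffineOpen_top S))
    (fun f g f' hf' h => h.precomp g f' hf') (fun f g f' hf' h => h.precomp g f' hf')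
  obtain ⟨w, -⟩ := hqs.1 ⟨IsLocalRing.closedPoint k, trivial⟩
  obtain ⟨R, hwR, hR, hc₁, hc₂⟩ := hloc w
  haveI : IsAffine (R : Scheme.{u}) := hR
  haveI : Nonempty (R : Scheme.{u}) := ⟨⟨w, hwR⟩⟩
  let π : (R : Scheme.{u}) ⟶ S := R.ι ≫ q ≫ (⊤ : S.Opens).ι
  haveI : Flat π := GrothLib.AlgSp.flat_to_field π
  haveI : Surjective π := GrothLib.Flag27.surjective_to_field π
  haveI : IsAffine (⊤ : (R : Scheme.{u}).Opens).toScheme := isAffineOpen_top _
  obtain ⟨M, _, ⟨r₁, ⟨φ₁⟩⟩, ⟨e₁⟩⟩ := hc₁.precomp (⊤ : (R : Scheme.{u}).Opens).ι ((⊤ : (R : Scheme.{u}).Opens).ι ≫ π) rfl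
  obtain ⟨M', _, ⟨r₂, ⟨φ₂⟩⟩, ⟨e₂⟩⟩ := hc₂.precomp (⊤ : (R : Scheme.{u}).Opens).ι ((⊤ : (R : Scheme.{u}).Opens).ι ≫ π) rfl
  obtain ⟨e, -⟩ := exists_prod_chart ((⊤ : (R : Scheme.{u}).Opens).ι ≫ π) e₁ e₂
  haveI : IsSeparated G.hom := inferInstance
  haveI : QuasiCompact G.hom := inferInstance
  obtain ⟨I, gI, j, hj, f, hf, hjc, hff, hfs, hfj, hch⟩ := GrothLib.MonoMT14.exists_image_of_charts π
    ‹LocallyOfFinitePresentation G.hom› v freeM (fun s => ⟨⊤, trivial, M × M', inferInstance,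
      ⟨r₁ + r₂, ⟨((LinearEquiv.funCongrLeft ℤ ℤ finSumFinEquiv).trans
        (LinearEquiv.sumArrowLequivProdArrow (Fin r₁) (Fin r₂) ℤ ℤ)).toAddEquiv.trans (φ₁.prodCongr φ₂)⟩⟩, ⟨e⟩⟩)
  haveI := hjc
  haveI : IsAffine I.left := isAffine_of_isAffineHom j.left
  haveI : QuasiCompact f.left := inferInstance
  refine ⟨I, gI, j, f, hj, hf, hjc, ⟨(R : Scheme.{u}), π, inferInstance, inferInstance, fun V hV => ?_, fun s => ?_⟩,
    hff, hfs, inferInstance, hfj⟩
  · haveI : Subsingleton ↥S := inferInstanceAs (Subsingleton (PrimeSpectrum k))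
    by_cases hne : (V : Set ↥S).Nonempty
    · obtain ⟨x, hx⟩ := hne
      refine ⟨⊤, (isAffineOpen_top _).isCompact, Set.Subset.antisymm (fun y _ => ?_) fun y _ => ?_⟩
      · rw [Subsingleton.elim y x]; exact hx
      · obtain ⟨z, hz⟩ := π.surjective y
        exact ⟨z, trivial, hz⟩
    · exact ⟨⊥, by simp, by simp [Set.not_nonempty_iff_eq_empty.1 hne]⟩
  · obtain ⟨N, instN, U, hU, ⟨r, ⟨φ⟩⟩, Λ, -, ⟨eI⟩⟩ := hch s
    haveI : Module.Free ℤ N := Module.Free.of_equiv φ.toIntLinearEquiv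
    haveI : Module.Finite ℤ N := Module.Finite.equiv φ.toIntLinearEquiv
    let Λ' := AddSubgroup.toIntSubmodule Λ
    let ψ : (Fin (Module.finrank ℤ Λ') → ℤ) ≃+ Λ := (Module.finBasis ℤ Λ').equivFun.symm.toAddEquiv
    obtain ⟨eB⟩ := GrothLib.QuotTorus14.exists_iso_DS (U : Scheme.{u}) ψ
    exact ⟨U, hU, _, ⟨eI ≪≫ eB⟩⟩

variable {S : Scheme.{u}}

set_option maxHeartbeats 3200000 in
/-- A torus mapping into a subgroup commuting with a maximal torus of it factors through that torus. -/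
theorem exists_factor_maxTorus_comm {G A R Q : Over S} [GrpObj G] [GrpObj A] [GrpObj R] [GrpObj Q]
    [Smooth G.hom] [IsAffineHom G.hom] (a : A ⟶ G) [IsMonHom a] [Mono a] (r : R ⟶ A) (hR : Red.IsMaximalTorus r)
    (hQ : Red.IsTorus Q) (u : Q ⟶ A) [IsMonHom u]
    (hc : ∀ (X : Over S) (x : X ⟶ Q) (t : X ⟶ R), (x ≫ u) * (t ≫ r) = (t ≫ r) * (x ≫ u)) :
    ∃ w : Q ⟶ R, w ≫ r = u := by
  obtain ⟨hrm, hrmono, hRt, hmax⟩ := hR
  haveI := hrm; haveI := hrmono
  have hHQ := GrothLib.QuotTorus14.isMultTypeFT_of_charts (hasChartsFpqc_of_isTorus hQ)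
  suffices h : ∀ s : S, Factor (u ≫ a) (r ≫ a) (Red.geomPt s) by
    obtain ⟨w, hw⟩ := exists_factor_of_fibres (r ≫ a) hRt hHQ (u ≫ a) (fun X x t => by
      rw [← Category.assoc, ← Category.assoc, ← MonObj.mul_comp, ← MonObj.mul_comp, hc]) h
    exact ⟨w, by rw [← cancel_mono a, Category.assoc, hw]⟩
  intro s
  let v : R ⊗ Q ⟶ A := (fst R Q ≫ r) * (snd R Q ≫ u)
  haveI : IsMonHom v := GrothLib.DiagGrp.isMonHom_of_points v fun Y x y => by
    simp only [v, MonObj.comp_mul, MonObj.mul_comp, ← Category.assoc]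
    exact Commute.mul_mul_mul_comm (show Commute ((y ≫ fst R Q) ≫ r) ((x ≫ snd R Q) ≫ u) from
      (hc Y (x ≫ snd R Q) (y ≫ fst R Q)).symm) _ _
  let p := Red.geomPt s
  haveI : IsAffineHom (Red.bc p G).hom :=
    MorphismProperty.pullback_snd (P := @IsAffineHom) G.hom p ‹_›
  haveI : IsAffine (Red.bc p G).left := isAffine_of_isAffineHom (Red.bc p G).hom
  haveI : Smooth (Red.bc p G).hom := GrothLib.Flag27.smooth_bc _ G
  let F := Over.pullback p
  let μp := Functor.Monoidal.μIso F R Q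
  let vp : Red.bc p R ⊗ Red.bc p Q ⟶ Red.bc p A := μp.hom ≫ F.map v
  have hv : vp = (fst (Red.bc p R) (Red.bc p Q) ≫ F.map r) * (snd (Red.bc p R) (Red.bc p Q) ≫ F.map u) := by
    simp only [vp, v, F.map_mul, MonObj.comp_mul, Functor.map_comp, ← Category.assoc, μp,
      Functor.Monoidal.μIso_hom, Functor.Monoidal.μ_fst, Functor.Monoidal.μ_snd]
    rfl
  haveI : IsMonHom vp := GrothLib.DiagGrp.isMonHom_of_points vp fun Y x y => by
    rw [hv]
    simp only [MonObj.comp_mul, MonObj.mul_comp, ← Category.assoc]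
    refine Commute.mul_mul_mul_comm (show Commute ((y ≫ fst _ _) ≫ F.map r) ((x ≫ snd _ _) ≫ F.map u) from ?_) _ _
    obtain ⟨a₁, ha₁⟩ := (bcPoint p R Y).surjective (y ≫ fst _ _)
    obtain ⟨b₁, hb₁⟩ := (bcPoint p Q Y).surjective (x ≫ snd _ _)
    rw [← ha₁, ← hb₁, ← bcPoint_comp_right, ← bcPoint_comp_right]
    exact Commute.map (show Commute (a₁ ≫ r) (b₁ ≫ u) from (hc _ b₁ a₁).symm) (bcPointMulEquiv p A Y)
  haveI := mono_map p a
  haveI := mono_map p r
  obtain ⟨I, _, j, f, hj, hf, hjc, hIt, hff, hfs, hfq, hfj⟩ := exists_image_torus (isTorus_bc p hRt)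
    (isTorus_bc p hQ) (vp ≫ F.map a)
  haveI := hj; haveI := hf; haveI := hjc; haveI := hff; haveI := hfs; haveI := hfq
  haveI : Mono j := Over.mono_of_mono_left j
  obtain ⟨d, hd⟩ := GrothLib.MonoMT14.exists_desc f vp fun C _ q x y h => by
    rw [← cancel_mono (F.map a), Category.assoc, Category.assoc]
    refine ((congrArg (x ≫ ·) hfj).symm.trans ?_).trans (congrArg (y ≫ ·) hfj)
    rw [← Category.assoc, ← Category.assoc, h]
  haveI : Epi f.left := Flat.epi_of_flat_of_surjective _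
  haveI : Epi f := Over.epi_of_epi_left f
  have hdj : d ≫ F.map a = j := by rw [← cancel_epi f, ← Category.assoc, hd, hfj]
  haveI : IsMonHom (d ≫ F.map a) := by rw [hdj]; infer_instance
  haveI : IsMonHom d := GrothLib.CentMT14.isMonHom_of_comp d (F.map a)
  haveI : Mono (d ≫ F.map a) := by rw [hdj]; infer_instance
  haveI : Mono d := mono_of_mono d (F.map a)
  let inl : Red.bc p R ⟶ I := lift (𝟙 _) 1 ≫ f
  have hinl : inl ≫ d = F.map r := by
    simp only [inl, Category.assoc, hd]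
    rw [hv, MonObj.comp_mul, lift_fst_assoc, lift_snd_assoc, Category.id_comp, MonObj.one_comp, _root_.mul_one]
  haveI : IsIso inl := hmax s I d inl hIt hinl
  refine (factor_iff_exists (u ≫ a) (r ≫ a) p).2 ⟨lift 1 (𝟙 _) ≫ f ≫ inv inl, ?_⟩
  have hinr : (lift 1 (𝟙 _) ≫ f) ≫ d = F.map u := by
    simp only [Category.assoc, hd]
    rw [hv, MonObj.comp_mul, lift_fst_assoc, lift_snd_assoc, Category.id_comp, MonObj.one_comp, _root_.one_mul]
  rw [Functor.map_comp, Functor.map_comp, ← hinr, ← hinl]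
  simp only [Category.assoc, IsIso.inv_hom_id_assoc]

end GrothLib.MaxTorBC14
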