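import Groth.Agent.Lib.Flag27.Cartan
import Groth.Agent.Lib.Flag27.CentBC
import Groth.Agent.Lib.Flag27.BorelTheorem
import Groth.Agent.Lib.MultDef14.Transporter

/-!
# Maximal tori over algebraically closed fields stay maximal after field extension
-/

set_option autoImplicit false
set_option linter.all false
set_option backward.isDefEq.respectTransparency false

universe u

open CategoryTheory CategoryTheory.Limits MonoidalCategory CartesianMonoidalCategory MonObj GrpObj AlgebraicGeometry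

set_option synthInstance.maxHeartbeats 400000
set_option maxHeartbeats 1600000

namespace GrothLib.MaxTorBC14

open GrothLib.Flag27

variable {K : Type u} [Field K] [IsAlgClosed K] {L : Type u} [Field L]
  (q : Spec (CommRingCat.of L) ⟶ Spec (CommRingCat.of K))

theorem mono_of_closed {S : Scheme.{u}} {A B : Over S} (i : A ⟶ B) (h : IsClosedImmersion i.left) : Mono i := by
  haveI := h
  exact Over.mono_of_mono_left i

/-- A homomorphism from a torus to the base change of a unipotent group is trivial. -/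
theorem hom_unip_eq_one {U : Over (Spec (CommRingCat.of K))} [GrpObj U] (hU : IsUnip K U)
    {T' : Over (Spec (CommRingCat.of L))} [GrpObj T'] {Q : ∀ (M : Type), AddCommGroup M → Prop}
    (hT' : GrothLib.DiagGrp.HasChartsFpqc Q T') (v : T' ⟶ Red.bc q U) [IsMonHom v] :
    v = 1 := by
  obtain ⟨A, iA₁, iA₂, -, hu, ⟨eA⟩⟩ := hU
  let a := (Over.pullback q).mapGrp.mapIso eA
  haveI : IsMonHom a.inv.hom.hom := a.inv.hom.isMonHom_hom
  haveI : Mono a.inv.hom.hom := inferInstanceAs (Mono ((Grp.forget _).mapIso a).inv)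
  have h := GrothLib.CentMT14.hom_eq_one A q hT' hu (v ≫ a.inv.hom.hom)
  rw [← cancel_mono a.inv.hom.hom]
  refine h.trans ?_
  exact (MonObj.one_comp a.inv.hom.hom).symm

/-- After any field extension, a group of multiplicative type commuting with a maximal torus of a connected group
lies in it. -/
theorem exists_factor_connected {G T : Over (Spec (CommRingCat.of K))} [GrpObj G] [GrpObj T] [IsAffine G.left]
    [Smooth G.hom] [ConnectedSpace G.left] {iT : T ⟶ G} [IsMonHom iT] (hT : AGF.IsMaxTorus iT)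
    {T' : Over (Spec (CommRingCat.of L))} [GrpObj T'] {Q : ∀ (M : Type), AddCommGroup M → Prop}
    (hT' : GrothLib.DiagGrp.HasChartsFpqc Q T') (j : T' ⟶ Red.bc q G) [IsMonHom j]
    (hcomm : ∀ (X : Over (Spec (CommRingCat.of L))) (x : X ⟶ T') (t : X ⟶ Red.bc q T),
      Commute (x ≫ j) (t ≫ (Over.pullback q).map iT)) :
    ∃ g : T' ⟶ Red.bc q T, g ≫ (Over.pullback q).map iT = j := by
  obtain ⟨-, hTmono, hTt, hmax⟩ := id hT
  haveI := hTmono
  obtain ⟨C, _, c, hc, -, -⟩ := GrothLib.MultDef14.exists_centralizer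
    (GrothLib.DiagGrp.hasChartsFpqc_of_isTorus hTt) ‹Smooth G.hom› (isAffineHom_of_isAffine _) iT
  obtain ⟨hcc, hCa, hCs, hCconn⟩ := centralizer_facts iT hTt hc
  haveI := hcc; haveI := hCa; haveI := hCs; haveI := hCconn
  obtain ⟨hcm, hcmono, hciff⟩ := id hc
  haveI := hcm; haveI := hcmono
  obtain ⟨tC, htC⟩ := (hciff _ iT).2 fun X x h => by
    rw [← MonObj.mul_comp, ← MonObj.mul_comp, GrothLib.RankCell14.comm_torus hTt (x) h]
  haveI : IsMonHom (tC ≫ c) := by rw [htC]; infer_instance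
  haveI : IsMonHom tC := GrothLib.CentMT14.isMonHom_of_comp tC c
  haveI : Mono (tC ≫ c) := by rw [htC]; infer_instance
  haveI : Mono tC := mono_of_mono tC c
  have hTC : AGF.IsMaxTorus tC := by
    refine ⟨inferInstance, inferInstance, hTt, fun T₂ _ j₂ _ _ f hT₂ hf => ?_⟩
    exact hmax T₂ (j₂ ≫ c) f hT₂ (by rw [reassoc_of% hf, htC])
  have hcentral : ∀ (X : Over (Spec (CommRingCat.of K))) (g : X ⟶ C) (w : X ⟶ T),
      g * (w ≫ tC) = (w ≫ tC) * g := fun X g w => by
    rw [← cancel_mono c, MonObj.mul_comp, MonObj.mul_comp, Category.assoc, htC]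
    have := (hciff _ (g ≫ c)).1 ⟨g, rfl⟩ X (𝟙 X) w
    rwa [Category.id_comp] at this
  have hsolv := isSolvable_centralizer hT hc
  haveI : IsClosedImmersion (𝟙 C : C ⟶ C).left := by
    show IsClosedImmersion (𝟙 C.left); infer_instance
  have hBC : Red.IsBorelOver K (𝟙 C) := by
    refine ⟨inferInstance, inferInstance, hCs, hCconn, isSolvableGrp_of_points hsolv, ?_⟩
    intro B' _ i' _ f hic' hsm' hc' hs' hf
    haveI := hic'
    haveI : Mono i' := Over.mono_of_mono_left i'
    exact ⟨i', hf, by rw [← cancel_mono i', Category.assoc, hf, Category.comp_id, Category.id_comp]⟩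
  obtain ⟨D, _, U, _, p, s, u, r, hp, hs, hu, hsp, hDt, hDa, hDs, -, huc, hup, -, hru, hUu, hUs, -⟩ :=
    hasSplit_of_solvable hsolv
  haveI := hp; haveI := hs; haveI := hu; haveI := huc; haveI := hUs
  haveI : Mono u := Over.mono_of_mono_left u
  obtain ⟨hiso, h, hh⟩ := exists_iso_section_in_borel hBC p s u r hsp hup hru hUu hDt tC hTC tC (Category.comp_id _)
  haveI := hiso
  have htps : tC ≫ p ≫ s = tC := by
    have e := hcentral T (toUnit T ≫ h) (𝟙 T)
    rw [Category.id_comp] at e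
    rw [← hh, AGF.conjBy, e, mul_inv_cancel_right]
  have hs_eq : p ≫ s = (p ≫ inv (tC ≫ p)) ≫ tC := by
    calc p ≫ s = p ≫ inv (tC ≫ p) ≫ (tC ≫ p) ≫ s := by rw [IsIso.inv_hom_id_assoc]
      _ = (p ≫ inv (tC ≫ p)) ≫ tC := by simp only [Category.assoc, htps]
  haveI : IsMonHom (r ≫ u) := by
    rw [hru]
    refine GrothLib.GrpSchField.isMonHom_of_mul _ (GrothLib.GrpSchField.hom_ext_points₂ fun X a b => ?_)
    rw [← Category.assoc, ← Hom.mul_def, lift_map_assoc, ← Hom.mul_def]
    have e1 : (b * (b ≫ p ≫ s)⁻¹) * (a ≫ p ≫ s)⁻¹ = (a ≫ p ≫ s)⁻¹ * (b * (b ≫ p ≫ s)⁻¹) := by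
      have := Commute.inv_right (show Commute (b * (b ≫ p ≫ s)⁻¹) (a ≫ p ≫ s) from by
        rw [hs_eq, ← Category.assoc a]
        exact hcentral _ _ _)
      exact this
    simp only [MonObj.comp_mul, GrpObj.comp_inv, Category.comp_id, MonObj.mul_comp, _root_.mul_inv_rev]
    calc a * b * ((b ≫ p ≫ s)⁻¹ * (a ≫ p ≫ s)⁻¹)
        = a * ((b * (b ≫ p ≫ s)⁻¹) * (a ≫ p ≫ s)⁻¹) := by simp only [_root_.mul_assoc]
      _ = _ := by rw [e1, ← _root_.mul_assoc]
  haveI : IsMonHom r := GrothLib.CentMT14.isMonHom_of_comp r u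
  have hcL := isCentralizerOf_bc q hc
  obtain ⟨hcmL, hcmonoL, hciffL⟩ := id hcL
  haveI := hcmL; haveI := hcmonoL
  obtain ⟨w, hw⟩ := (hciffL _ j).2 fun X x t => hcomm X x t
  haveI : IsMonHom (w ≫ (Over.pullback q).map c) := by rw [hw]; infer_instance
  haveI : IsMonHom w := GrothLib.CentMT14.isMonHom_of_comp w ((Over.pullback q).map c)
  have h1 : w ≫ (Over.pullback q).map r = 1 := hom_unip_eq_one q hUu hT' _
  refine ⟨w ≫ (Over.pullback q).map (p ≫ inv (tC ≫ p)), ?_⟩
  have h2 : 1 = w * (w ≫ (Over.pullback q).map (p ≫ s))⁻¹ := by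
    have e := congrArg (fun φ => w ≫ (Over.pullback q).map φ) hru
    simp only [Functor.map_comp, Functor.map_mul, Functor.map_inv', Functor.map_id, MonObj.comp_mul,
      GrpObj.comp_inv, Category.comp_id] at e
    rw [← Category.assoc, h1, MonObj.one_comp] at e
    have hid : w ≫ (Over.pullback q).map (𝟙 C) = w :=
      (congrArg (w ≫ ·) ((Over.pullback q).map_id C)).trans (Category.comp_id w)
    rw [hid] at e
    simpa only [Functor.map_comp] using e
  rw [← hw, ← htC, Functor.map_comp _ tC c, ← Category.assoc, Category.assoc w]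
  refine congrArg (· ≫ (Over.pullback q).map c) ?_
  rw [← Functor.map_comp, ← hs_eq]
  exact (mul_inv_eq_one.1 h2.symm).symm

/-- A maximal torus over an algebraically closed field stays maximal after any field extension. -/
theorem isIso_of_le {G T : Over (Spec (CommRingCat.of K))} [GrpObj G] [GrpObj T] [IsAffine G.left]
    [Smooth G.hom] {iT : T ⟶ G} [IsMonHom iT] (hT : AGF.IsMaxTorus iT)
    {T' : Over (Spec (CommRingCat.of L))} [GrpObj T'] (hT' : Red.IsTorus T') (j : T' ⟶ Red.bc q G) [IsMonHom j]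
    [Mono j] (f : Red.bc q T ⟶ T') (hf : f ≫ j = (Over.pullback q).map iT) : IsIso f := by
  obtain ⟨-, hTmono, hTt, hmax⟩ := id hT
  haveI := hTmono
  obtain ⟨hTc, hTa, hTs, hTconn⟩ := torus_facts hTt iT
  haveI := hTconn
  obtain ⟨G₀, _, j₀, hj₀, hjo, hconn, hfac⟩ := GrothLib.Induce27.exists_neutral G
  haveI := hj₀; haveI := hjo; haveI := hconn
  haveI : LocallyOfFiniteType G.hom := inferInstance
  haveI : IsClosedImmersion j₀.left := IsClosedImmersion.of_isPreimmersion j₀.left
    (GrothLib.GrpSchField.isClosed_range_of_isLocallyClosed j₀ j₀.left.isOpenEmbedding.isOpen_range.isLocallyClosed)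
  haveI : IsAffine G₀.left := isAffine_of_isAffineHom j₀.left
  haveI : Smooth G₀.hom := by rw [← Over.w j₀]; infer_instance
  haveI : Mono j₀ := Over.mono_of_mono_left j₀
  obtain ⟨iT₀, hiT₀, hT₀e⟩ := hfac T iT
  haveI := hiT₀
  have hT₀ : AGF.IsMaxTorus iT₀ := by
    haveI : Mono (iT₀ ≫ j₀) := by rw [hT₀e]; infer_instance
    exact ⟨hiT₀, mono_of_mono iT₀ j₀, hTt,
      fun T₂ _ j₂ _ _ f₂ hT₂ h₂ => hmax T₂ (j₂ ≫ j₀) f₂ hT₂ (by rw [reassoc_of% h₂, hT₀e])⟩
  let J := (Over.pullback q).map j₀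
  haveI : IsOpenImmersion J.left := property_map q j₀ hjo
  haveI : IsClosedImmersion J.left := property_map q j₀ ‹_›
  haveI : IsAffine (Red.bc q G).left := isAffine_bc q G
  haveI : Smooth (Red.bc q G).hom := smooth_bc q G
  haveI : LocallyOfFiniteType (Red.bc q G).hom := inferInstance
  obtain ⟨-, -, -, hT'conn⟩ := torus_facts hT' j
  haveI := hT'conn
  have hclopen : IsClopen (j.left.base ⁻¹' Set.range J.left.base) :=
    ⟨J.left.isClosedEmbedding.isClosed_range.preimage j.left.continuous,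
      J.left.isOpenEmbedding.isOpen_range.preimage j.left.continuous⟩
  have hne : (j.left.base ⁻¹' Set.range J.left.base).Nonempty := by
    let z : ↥(𝟙_ (Over (Spec (CommRingCat.of L)))).left := IsLocalRing.closedPoint L
    refine ⟨η[T'].left.base z, η[Red.bc q G₀].left.base z, ?_⟩
    show (η[Red.bc q G₀].left ≫ J.left).base z = (η[T'].left ≫ j.left).base z
    rw [← Over.comp_left, ← Over.comp_left]
    erw [IsMonHom.one_hom, IsMonHom.one_hom]
  have hr : Set.range j.left.base ⊆ Set.range J.left.base := by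
    rintro _ ⟨y, rfl⟩
    exact (Set.eq_univ_iff_forall.1 (IsClopen.eq_univ hclopen hne)) y
  let l : T'.left ⟶ (Red.bc q G₀).left := IsOpenImmersion.lift J.left j.left hr
  have hl : l ≫ J.left = j.left := IsOpenImmersion.lift_fac _ _ _
  let j' : T' ⟶ Red.bc q G₀ := Over.homMk l (by rw [← Over.w J, ← Category.assoc, hl]; exact Over.w j)
  have hj' : j' ≫ J = j := Over.OverMorphism.ext hl
  haveI : Mono J := Over.mono_of_mono_left J
  haveI : IsMonHom (j' ≫ J) := by rw [hj']; infer_instance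
  haveI : IsMonHom j' := GrothLib.CentMT14.isMonHom_of_comp j' J
  have hf' : f ≫ j' = (Over.pullback q).map iT₀ := by
    rw [← cancel_mono J, Category.assoc, hj', hf, ← hT₀e, Functor.map_comp]
  obtain ⟨g, hg⟩ := exists_factor_connected q hT₀ (GrothLib.DiagGrp.hasChartsFpqc_of_isTorus hT') j' fun X x t => by
    rw [← hf', ← Category.assoc]
    show (x ≫ j') * ((t ≫ f) ≫ j') = ((t ≫ f) ≫ j') * (x ≫ j')
    rw [← MonObj.mul_comp, ← MonObj.mul_comp, GrothLib.RankCell14.comm_torus hT' x (t ≫ f)]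
  obtain ⟨-, hm₀, -, -⟩ := id hT₀
  haveI := hm₀
  haveI : Mono ((Over.pullback q).map iT₀) := by
    exact mono_of_closed _ (property_map q iT₀ (torus_facts hTt iT₀).1)
  haveI : Mono (j' ≫ J) := by rw [hj']; infer_instance
  haveI : Mono j' := mono_of_mono j' J
  refine ⟨g, ?_, ?_⟩
  · rw [← cancel_mono ((Over.pullback q).map iT₀), Category.assoc, hg, hf', Category.id_comp]
  · rw [← cancel_mono j', Category.assoc, hf', hg, Category.id_comp]

end GrothLib.MaxTorBC14
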