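import Groth.Agent.Lib.MaxTorBC14.Geom
import Groth.Agent.Lib.DiagGrp.SubgroupLocus

/-!
# Central subgroups of multiplicative type lie in maximal tori
-/

set_option autoImplicit false
set_option linter.all false
set_option backward.isDefEq.respectTransparency false

universe u

open CategoryTheory CategoryTheory.Limits MonoidalCategory CartesianMonoidalCategory MonObj GrpObj AlgebraicGeometry

set_option maxHeartbeats 1600000
set_option synthInstance.maxHeartbeats 400000

namespace GrothLib.MaxTorBC14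

open GrothLib.Flag27 GrothLib.DiagGrp

variable {S : Scheme.{u}}

/-- Factorisation through a subgroup descends along a field extension of a point. -/
theorem factor_descend {H H' G : Over S} (i : H ⟶ G) (i' : H' ⟶ G) [Mono i'] {k K : Type u} [Field k] [Field K]
    (z : Spec (CommRingCat.of k) ⟶ S) (σ : Spec (CommRingCat.of K) ⟶ Spec (CommRingCat.of k))
    (h : Factor i i' (σ ≫ z)) : Factor i i' z := by
  rw [factor_iff_isIso] at h ⊢
  let v := pullback.fst i i'
  let v' := (Over.pullback z).map v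
  haveI := h
  haveI : IsIso ((Over.forget _).map ((Over.pullback (σ ≫ z)).map v)) := h
  haveI : IsIso ((Over.pullback (σ ≫ z)).map v) := isIso_of_reflects_iso _ (Over.forget _)
  haveI : IsIso ((Over.pullback σ).map v') := (NatIso.isIso_map_iff (Over.pullbackComp σ z) v).1 inferInstance
  haveI : Surjective σ := surjective_to_field σ
  haveI : Flat σ := GrothLib.AlgSp.flat_to_field σ
  haveI : IsIso ((Over.pullback σ).map v').left :=
    inferInstanceAs (IsIso ((Over.forget _).map ((Over.pullback σ).map v')))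
  have hQ' : (@Surjective ⊓ @Flat ⊓ @QuasiCompact : MorphismProperty Scheme.{u})
      (pullback.fst ((Over.pullback z).obj H).hom σ) :=
    ⟨⟨MorphismProperty.pullback_fst _ _ ‹_›, MorphismProperty.pullback_fst _ _ ‹_›⟩,
      MorphismProperty.pullback_fst _ _ (inferInstance : QuasiCompact σ)⟩
  exact MorphismProperty.of_isPullback_of_descendsAlong (P := MorphismProperty.isomorphisms Scheme.{u})
    (Q := @Surjective ⊓ @Flat ⊓ @QuasiCompact) (isPullback_overMap v' σ) hQ'
    ‹IsIso ((Over.pullback σ).map v').left›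

set_option maxHeartbeats 3200000 in
/-- A homomorphism of a group of multiplicative type into a smooth affine group commuting with a subtorus factors
through it if it does so on every geometric fibre. -/
theorem exists_factor_of_fibres {G T H : Over S} [GrpObj G] [GrpObj T] [GrpObj H] [Smooth G.hom] [IsAffineHom G.hom]
    (i : T ⟶ G) [IsMonHom i] [Mono i] (hTt : Red.IsTorus T) (hH : SGA3x.IsMultTypeFT H) (u : H ⟶ G) [IsMonHom u]
    (hc : ∀ (X : Over S) (x : X ⟶ H) (t : X ⟶ T), (x ≫ u) * (t ≫ i) = (t ≫ i) * (x ≫ u))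
    (hgeo : ∀ s : S, Factor u i (Red.geomPt s)) : ∃ w : H ⟶ T, w ≫ i = u := by
  have hres : ∀ s : S, Factor u i (S.fromSpecResidueField s) := fun s =>
    factor_descend (k := S.residueField s) u i (S.fromSpecResidueField s) _ (hgeo s)
  -- pass to the centralizer of the torus
  obtain ⟨C, _, c, hcC, hcc, hCs⟩ := GrothLib.MultDef14.exists_centralizer (hasChartsFpqc_of_isTorus hTt)
    ‹Smooth G.hom› ‹IsAffineHom G.hom› i
  haveI := hcc; haveI := hCs
  obtain ⟨hcm, hcmono, hciff⟩ := id hcC
  haveI := hcm; haveI := hcmono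
  obtain ⟨tC, htC⟩ := (hciff T i).2 fun X x h => by
    rw [← MonObj.mul_comp, ← MonObj.mul_comp, GrothLib.RankCell14.comm_torus hTt x h]
  obtain ⟨uC, huC⟩ := (hciff H u).2 fun X x h => hc X x h
  haveI : IsMonHom (tC ≫ c) := by rw [htC]; infer_instance
  haveI : IsMonHom tC := GrothLib.CentMT14.isMonHom_of_comp tC c
  haveI : IsMonHom (uC ≫ c) := by rw [huC]; infer_instance
  haveI : IsMonHom uC := GrothLib.CentMT14.isMonHom_of_comp uC c
  haveI : Mono (tC ≫ c) := by rw [htC]; infer_instance
  haveI : Mono tC := mono_of_mono tC c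
  have hctC : ∀ (X : Over S) (g : X ⟶ C) (t : X ⟶ T), Commute g (t ≫ tC) := fun X g t => by
    show g * (t ≫ tC) = (t ≫ tC) * g
    rw [← cancel_mono c, MonObj.mul_comp, MonObj.mul_comp, Category.assoc, htC]
    simpa only [Category.id_comp] using (hciff _ (g ≫ c)).1 ⟨g, rfl⟩ X (𝟙 X) t
  have hHcomm := mul_comm_of_charts (hasChartsFpqc_of_isMultTypeFT hH)
  let i₁ : T ⊗ H ⟶ C ⊗ H := lift (fst T H ≫ tC) (snd T H)
  let i₂ : T ⊗ H ⟶ C ⊗ H := lift ((fst T H ≫ tC) * (snd T H ≫ uC)) (snd T H)
  haveI hm₁ : IsMonHom i₁ := GrothLib.DiagGrp.isMonHom_of_points i₁ fun Y a b => by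
    apply CartesianMonoidalCategory.hom_ext <;>
      simp [i₁, MonObj.mul_comp]
  haveI : IsMonHom ((fst T H ≫ tC) * (snd T H ≫ uC)) := isMonHom_mul_central tC uC fun X g t => hctC X g t
  haveI hm₂ : IsMonHom i₂ := GrothLib.DiagGrp.isMonHom_of_points i₂ fun Y a b => by
    apply CartesianMonoidalCategory.hom_ext
    · simp only [i₂, Category.assoc, MonObj.mul_comp, lift_fst]
    · simp only [i₂, Category.assoc, MonObj.mul_comp, lift_snd]
  haveI : Mono i₁ := ⟨fun a b h => by
    have h1 := congrArg (· ≫ fst C H) h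
    have h2 := congrArg (· ≫ snd C H) h
    simp only [i₁, Category.assoc, lift_fst, lift_snd] at h1 h2
    exact CartesianMonoidalCategory.hom_ext _ _ ((cancel_mono tC).1 (by simpa only [Category.assoc] using h1)) h2⟩
  haveI : Mono i₂ := ⟨fun a b h => by
    have h1 := congrArg (· ≫ fst C H) h
    have h2 := congrArg (· ≫ snd C H) h
    simp only [i₂, Category.assoc, lift_fst, lift_snd] at h1 h2
    simp only [MonObj.comp_mul] at h1
    rw [← Category.assoc a (snd T H), ← Category.assoc b (snd T H), h2] at h1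
    have h3 := mul_right_cancel h1
    exact CartesianMonoidalCategory.hom_ext _ _ ((cancel_mono tC).1 (by simpa only [Category.assoc] using h3)) h2⟩
  have hcent : ∀ (X : Over S) (g : X ⟶ C ⊗ H) (h : X ⟶ T ⊗ H), g * (h ≫ i₁) = (h ≫ i₁) * g := fun X g h => by
    apply CartesianMonoidalCategory.hom_ext
    · simp only [MonObj.mul_comp, i₁, Category.assoc, lift_fst]
      simpa only [Category.assoc] using (hctC X (g ≫ fst C H) (h ≫ fst T H)).eq
    · simp only [MonObj.mul_comp]
      exact hHcomm X _ _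
  -- the equivalence of the factorisations
  have hto : ∀ {Z : Scheme.{u}} (z : Z ⟶ S), Factor u i z → Factor i₁ i₂ z ∧ Factor i₂ i₁ z := fun z hz => by
    constructor
    · intro Y τ hτ g
      obtain ⟨y, hy⟩ := hz Y τ hτ (g ≫ snd T H)
      have hy' : y ≫ tC = (g ≫ snd T H) ≫ uC := by
        rw [← cancel_mono c, Category.assoc, htC, Category.assoc, huC, hy]
      refine ⟨lift ((g ≫ fst T H) * y⁻¹) (g ≫ snd T H), ?_⟩
      apply CartesianMonoidalCategory.hom_ext
      · simp only [i₁, i₂, Category.assoc, lift_fst, MonObj.comp_mul, lift_fst_assoc, lift_snd_assoc]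
        rw [MonObj.mul_comp, GrpObj.inv_comp, hy']
        simp only [Category.assoc, inv_mul_cancel_right]
      · simp only [i₁, i₂, Category.assoc, lift_snd]
    · intro Y τ hτ g
      obtain ⟨y, hy⟩ := hz Y τ hτ (g ≫ snd T H)
      have hy' : y ≫ tC = (g ≫ snd T H) ≫ uC := by
        rw [← cancel_mono c, Category.assoc, htC, Category.assoc, huC, hy]
      refine ⟨lift ((g ≫ fst T H) * y) (g ≫ snd T H), ?_⟩
      apply CartesianMonoidalCategory.hom_ext
      · simp only [i₁, i₂, Category.assoc, lift_fst, MonObj.comp_mul, lift_fst_assoc]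
        rw [MonObj.mul_comp, hy']
        simp only [Category.assoc]
      · simp only [i₁, i₂, Category.assoc, lift_snd]
  have hfrom : ∀ {Z : Scheme.{u}} (z : Z ⟶ S), Factor i₂ i₁ z → Factor u i z := fun z hz Y τ hτ h => by
    obtain ⟨y, hy⟩ := hz Y τ hτ (lift 1 h)
    have h1 := congrArg (fun m => m ≫ fst C H ≫ c) hy
    simp only [i₁, i₂, Category.assoc, lift_fst_assoc, htC] at h1
    refine ⟨y ≫ fst T H, ?_⟩
    rw [Category.assoc, h1]
    simp only [MonObj.mul_comp, MonObj.comp_mul, Category.assoc, htC, huC, lift_fst_assoc, lift_snd_assoc,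
      MonObj.one_comp, _root_.one_mul]
  haveI := lfp_of_isMultTypeFT hH
  haveI := lfp_of_isMultTypeFT (GrothLib.QuotTorus14.isMultTypeFT_of_charts (hasChartsFpqc_of_isTorus hTt))
  haveI : LocallyOfFiniteType ((T ⊗ H) ⊗ (T ⊗ H)).hom := by
    haveI : LocallyOfFiniteType (T ⊗ H).hom :=
      inferInstanceAs (LocallyOfFiniteType (pullback.fst T.hom H.hom ≫ T.hom))
    exact inferInstanceAs (LocallyOfFiniteType (pullback.fst (T ⊗ H).hom (T ⊗ H).hom ≫ (T ⊗ H).hom))
  haveI : IsAffineHom C.hom := by rw [← Over.w c]; infer_instance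
  haveI : IsAffineHom H.hom := EssFree.isAffineHom_multTypeFT _ hH
  haveI : IsSeparated (C ⊗ H).hom := inferInstanceAs (IsSeparated (pullback.fst C.hom H.hom ≫ C.hom))
  have hlfp : LocallyOfFinitePresentation (C ⊗ H).hom :=
    inferInstanceAs (LocallyOfFinitePresentation (pullback.fst C.hom H.hom ≫ C.hom))
  let Pc : ∀ (W : Scheme.{u}), (W ⟶ S) → Prop := fun W f => HasChart fgM T f ∧ HasChart fgM H f
  have hcov : ∀ V : S.Opens, IsAffineOpen V → CoverBy Pc V := fun V hV =>
    ((hasChartsFpqc_of_isTorus hTt).coverBy V hV).inter ((hasChartsFpqc_of_isMultTypeFT hH).coverBy V hV)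
      (fun f g f' hf' h => h.precomp g f' hf') (fun f g f' hf' h => h.precomp g f' hf')
  have main : Factor u i (⊤ : S.Opens).ι := by
    refine factor_of_coverBy u i hcov ⊤ fun {W} _ f hP _ => ?_
    obtain ⟨M, _, hM, ⟨e₁⟩⟩ := hP.1.precomp W.isoSpec.inv _ rfl
    obtain ⟨M', _, hM', ⟨e₂⟩⟩ := hP.2.precomp W.isoSpec.inv _ rfl
    obtain ⟨e, -⟩ := exists_prod_chart (W.isoSpec.inv ≫ f) e₁ e₂
    have hMM : AddGroup.FG (M × M') := by
      haveI : AddGroup.FG M := hM
      haveI : AddGroup.FG M' := hM'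
      haveI : Module.Finite ℤ M := Module.Finite.iff_addGroup_fg.mpr ‹_›
      haveI : Module.Finite ℤ M' := Module.Finite.iff_addGroup_fg.mpr ‹_›
      exact Module.Finite.iff_addGroup_fg.mp inferInstance
    obtain ⟨-, hover⟩ := factor_locus_chart (W.isoSpec.inv ≫ f) e e i₁ i₂ hcent (Or.inr hlfp) hMM
    exact (hfrom _ (hover fun x => hto _ (hres _)).2).precomp W.isoSpec.hom f (by simp)
  obtain ⟨y, hy⟩ := main H (H.hom ≫ (Scheme.topIso S).inv) (by
    rw [Category.assoc, ← Scheme.topIso_hom, Iso.inv_hom_id, Category.comp_id]) (𝟙 H)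
  exact ⟨y, hy.trans (Category.id_comp _)⟩


set_option maxHeartbeats 3200000 in
/-- A central homomorphism of a group of multiplicative type into a smooth affine group with connected fibres
factors through every maximal torus. -/
theorem exists_factor_of_central {G T H : Over S} [GrpObj G] [GrpObj T] [GrpObj H] [Smooth G.hom] [IsAffineHom G.hom]
    (hconn : ∀ s : S, ConnectedSpace (Red.geomFibre s G).left)
    (i : T ⟶ G) (hT : Red.IsMaximalTorus i) (hH : SGA3x.IsMultTypeFT H) (u : H ⟶ G) [IsMonHom u]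
    (hc : ∀ (X : Over S) (x : X ⟶ H) (g : X ⟶ G), (x ≫ u) * g = g * (x ≫ u)) : ∃ w : H ⟶ T, w ≫ i = u := by
  obtain ⟨him, himono, hTt, hmax⟩ := hT
  haveI := him; haveI := himono
  have hgeo : ∀ s : S, Factor u i (Red.geomPt s) := fun s => by
    haveI : IsAffineHom (Red.bc (Red.geomPt s) G).hom :=
      MorphismProperty.pullback_snd (P := @IsAffineHom) G.hom (Red.geomPt s) ‹_›
    haveI : IsAffine (Red.bc (Red.geomPt s) G).left := isAffine_of_isAffineHom (Red.bc (Red.geomPt s) G).hom
    haveI : Smooth (Red.bc (Red.geomPt s) G).hom := smooth_bc _ G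
    haveI : ConnectedSpace (Red.bc (Red.geomPt s) G).left := hconn s
    haveI := mono_map (Red.geomPt s) i
    let p := Red.geomPt s
    have hmx : AGF.IsMaxTorus ((Over.pullback p).map i) :=
      ⟨inferInstance, inferInstance, isTorus_bc p hTt, fun T₁ _ j₁ _ _ f₁ hT₁ h₁ => hmax s T₁ j₁ f₁ hT₁ h₁⟩
    let one : Spec (CommRingCat.of (AlgebraicClosure (S.residueField s))) ⟶
      Spec (CommRingCat.of (AlgebraicClosure (S.residueField s))) := 𝟙 _
    have hcs : ∀ (X : Over _) (x : X ⟶ Red.bc p H) (g : X ⟶ Red.bc p G),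
        Commute (x ≫ (Over.pullback p).map u) g := fun X x g => by
      obtain ⟨x, rfl⟩ := (bcPoint p H X).surjective x
      obtain ⟨g, rfl⟩ := (bcPointMulEquiv p G X).surjective g
      rw [← bcPoint_comp_right]
      exact (Commute.map (hc _ x g) (bcPointMulEquiv p G X))
    obtain ⟨g, hg⟩ := exists_factor_connected one hmx
      ((((hasChartsFpqc_of_isMultTypeFT hH).baseChange p)).baseChange one)
      ((Over.pullback one).map ((Over.pullback p).map u)) fun X x t => by
        obtain ⟨x, rfl⟩ := (bcPoint one (Red.bc p H) X).surjective x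
        obtain ⟨t, rfl⟩ := (bcPoint one (Red.bc p T) X).surjective t
        rw [← bcPoint_comp_right, ← bcPoint_comp_right]
        exact Commute.map (hcs _ x _) (bcPointMulEquiv one (Red.bc p G) X)
    have hF : Factor ((Over.pullback p).map u) ((Over.pullback p).map i) one :=
      (factor_iff_exists _ _ one).2 ⟨g, hg⟩
    exact (factor_iff_exists u i p).2
      ⟨(hF (Red.bc p H) (Red.bc p H).hom (Category.comp_id _) (𝟙 _)).choose,
        (hF (Red.bc p H) (Red.bc p H).hom (Category.comp_id _) (𝟙 _)).choose_spec.trans (Category.id_comp _)⟩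
  exact exists_factor_of_fibres i hTt hH u (fun X x t => hc X x (t ≫ i)) hgeo

end GrothLib.MaxTorBC14
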